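import Mathlib
import Groth.Prelude.Def_DerComp
import Groth.Agent.Lib.Helper5.Misc.KFlatRestr
import Groth.Agent.Lib.Helper6.DCAway.TensLin1

/-!
# Naturality of the projection-formula isomorphism of total complexes in the first variable (helper6)
-/

set_option backward.isDefEq.respectTransparency.types false
set_option autoImplicit false
set_option linter.unusedSectionVars false
set_option linter.unusedVariables false
set_option linter.style.haveILetI false
universe u
open CategoryTheory CategoryTheory.Limits Opposite HomologicalComplex

namespace Groth.Agent.Lib.Helper6.DCRHom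

open Groth.Agent.Lib.Helper5 Groth.Agent.Lib.Helper5.ShriekSheaf Groth.Agent.Lib.Helper5.Misc
  Groth.Agent.Lib.Helper5.Misc.KFlatRestr Groth.Agent.Lib.Helper6.DCAway

variable {C : Type u} [SmallCategory C] {J : GrothendieckTopology C} (O : Sheaf J CommRingCat.{u}) (U : C)

/-- `j_!(Tot(a ⊗ K|_U))` corresponds to `Tot(j_!a ⊗ K)` under the projection formula -/
theorem totIso_naturality_left {F F' : CochainComplex (ModSite.Mod (O.over U)) ℤ} (a : F ⟶ F')
    (K : CochainComplex (ModSite.Mod O) ℤ) :
    ((ModSite.extZero O U).mapHomologicalComplex (ComplexShape.up ℤ)).map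
        (((ModSite.tensorCx (O.over U)).map a).app
          (((ModSite.restr O U).mapHomologicalComplex (ComplexShape.up ℤ)).obj K)) ≫
      (totIso O U F' K).hom =
    (totIso O U F K).hom ≫
      ((ModSite.tensorCx O).map
        (((ModSite.extZero O U).mapHomologicalComplex (ComplexShape.up ℤ)).map a)).app K := by
  ext n : 1
  apply ProjTot.hom_ext_G (ModSite.tensorBi (O.over U)) (ModSite.extZero O U) (ModSite.restr O U) F K
  intro p q hpq
  have e1 : (((ModSite.extZero O U).mapHomologicalComplex (ComplexShape.up ℤ)).map
        (((ModSite.tensorCx (O.over U)).map a).app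
          (((ModSite.restr O U).mapHomologicalComplex (ComplexShape.up ℤ)).obj K)) ≫
      (totIso O U F' K).hom).f n =
      (ModSite.extZero O U).map ((((ModSite.tensorCx (O.over U)).map a).app
          (((ModSite.restr O U).mapHomologicalComplex (ComplexShape.up ℤ)).obj K)).f n) ≫
        (ProjTot.eIso (ModSite.tensorBi (O.over U)) (ModSite.tensorBi O) (ModSite.extZero O U)
          (ModSite.restr O U) (fun P N => projIso P N) F' K n).hom := rfl
  have e2 : ((totIso O U F K).hom ≫
      ((ModSite.tensorCx O).map
        (((ModSite.extZero O U).mapHomologicalComplex (ComplexShape.up ℤ)).map a)).app K).f n =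
      (ProjTot.eIso (ModSite.tensorBi (O.over U)) (ModSite.tensorBi O) (ModSite.extZero O U)
          (ModSite.restr O U) (fun P N => projIso P N) F K n).hom ≫
        (((ModSite.tensorCx O).map
          (((ModSite.extZero O U).mapHomologicalComplex (ComplexShape.up ℤ)).map a)).app K).f n :=
    rfl
  rw [e1, e2]
  have h1 : ProjTot.ιA (ModSite.tensorBi (O.over U)) (ModSite.restr O U) F K p q n hpq ≫
      (((ModSite.tensorCx (O.over U)).map a).app
          (((ModSite.restr O U).mapHomologicalComplex (ComplexShape.up ℤ)).obj K)).f n =
      ((ModSite.tensorBi (O.over U)).map (a.f p)).app ((ModSite.restr O U).obj (K.X q)) ≫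
        ProjTot.ιA (ModSite.tensorBi (O.over U)) (ModSite.restr O U) F' K p q n hpq :=
    ι_tensorCx_map_app (O.over U) a
      (((ModSite.restr O U).mapHomologicalComplex (ComplexShape.up ℤ)).obj K) p q n hpq
  have h2 : ProjTot.ιB (ModSite.tensorBi O) (ModSite.extZero O U) F K p q n hpq ≫
      (((ModSite.tensorCx O).map
          (((ModSite.extZero O U).mapHomologicalComplex (ComplexShape.up ℤ)).map a)).app K).f n =
      ((ModSite.tensorBi O).map ((ModSite.extZero O U).map (a.f p))).app (K.X q) ≫
        ProjTot.ιB (ModSite.tensorBi O) (ModSite.extZero O U) F' K p q n hpq :=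
    ι_tensorCx_map_app O (((ModSite.extZero O U).mapHomologicalComplex (ComplexShape.up ℤ)).map a)
      K p q n hpq
  have h3 := ProjTot.ι_eIso (ModSite.tensorBi (O.over U)) (ModSite.tensorBi O)
    (ModSite.extZero O U) (ModSite.restr O U) (fun P N => projIso P N) F K p q n hpq
  have h4 := ProjTot.ι_eIso (ModSite.tensorBi (O.over U)) (ModSite.tensorBi O)
    (ModSite.extZero O U) (ModSite.restr O U) (fun P N => projIso P N) F' K p q n hpq
  have h5 := projIso_naturality_left (a.f p) (K.X q)
  have k1 : (ModSite.extZero O U).map
        (ProjTot.ιA (ModSite.tensorBi (O.over U)) (ModSite.restr O U) F K p q n hpq) ≫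
      (ModSite.extZero O U).map ((((ModSite.tensorCx (O.over U)).map a).app
          (((ModSite.restr O U).mapHomologicalComplex (ComplexShape.up ℤ)).obj K)).f n) =
      (ModSite.extZero O U).map
          (((ModSite.tensorBi (O.over U)).map (a.f p)).app ((ModSite.restr O U).obj (K.X q))) ≫
        (ModSite.extZero O U).map
          (ProjTot.ιA (ModSite.tensorBi (O.over U)) (ModSite.restr O U) F' K p q n hpq) := by
    exact ((ModSite.extZero O U).map_comp _ _).symm.trans
      ((congrArg (fun t => (ModSite.extZero O U).map t) h1).trans
        ((ModSite.extZero O U).map_comp _ _))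
  refine ((Category.assoc _ _ _).symm.trans ((congrArg (fun t => t ≫ _) k1).trans
    ((Category.assoc _ _ _).trans ((congrArg (fun t => _ ≫ t) h4).trans
      ((Category.assoc _ _ _).symm.trans ((congrArg (fun t => t ≫ _) h5).trans
        (Category.assoc _ _ _))))))).trans ?_
  refine Eq.symm ?_
  exact (Category.assoc _ _ _).symm.trans ((congrArg (fun t => t ≫ _) h3).trans
    ((Category.assoc _ _ _).trans (congrArg (fun t => _ ≫ t) h2)))

end Groth.Agent.Lib.Helper6.DCRHom
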