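import Mathlib
import Groth.Prelude.Def_DerComp
import Groth.Agent.Lib.Helper6.DCLoc.Over
import Groth.Agent.Lib.Helper6.DCLoc.Cov
import Groth.Agent.Lib.Helper6.DCRHom.TotNat
import Groth.Agent.Lib.Helper5.ExactPQ.SiteWT
import Groth.Agent.Lib.Helper5.Misc.KFlatSite
import Groth.Agent.S6146

/-!
# `j_!(B) ⊗^L P = j_!(B ⊗ P|_U)` on representatives, compatibly with endomorphisms (helper6)

Abstract transport lemmas for the operator `Psi`, and the isomorphism
`(Q(j_! F)) ⊗^L P ≅ j_!(Q(Tot(F ⊗ P|_U)))` for `j_! F` K-flat (`exists_theta`).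
-/

set_option backward.isDefEq.respectTransparency.types false
set_option autoImplicit false
set_option linter.unusedSectionVars false
set_option linter.unusedVariables false
set_option linter.style.haveILetI false
universe u
open CategoryTheory CategoryTheory.Limits Opposite
attribute [local instance] HasDerivedCategory.standard

namespace Groth.Agent.Lib.Helper6.DCRHom

open Groth.Agent.Lib.Helper6.DCPush Groth.Agent.Lib.Helper6.DCLoc

section Abstract

variable {𝒟' : Type*} [Category 𝒟'] [Preadditive 𝒟'] {𝒟 : Type*} [Category 𝒟] [Preadditive 𝒟]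

/-- transport of `Psi` along an additive bijection of Hom groups -/
theorem psi_bij_transport {B K₁ Y K₂ : 𝒟'} (E : (B ⟶ K₁) → (Y ⟶ K₂))
    (hE : Function.Bijective E) (hsub : ∀ x x', E (x - x') = E x - E x') (b : B ⟶ B) (y : Y ⟶ Y)
    (hnat : ∀ x, E (b ≫ x) = y ≫ E x) :
    Function.Bijective (Psi (K := K₁) b) ↔ Function.Bijective (Psi (K := K₂) y) := by
  refine bij_conj (fun x i => E (x i)) ⟨?_, ?_⟩ (Psi b) (Psi y) (fun x => ?_)
  · intro x x' h
    funext i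
    exact hE.1 (congrFun h i)
  · intro z
    exact ⟨fun i => (hE.2 (z i)).choose, funext fun i => (hE.2 (z i)).choose_spec⟩
  · funext i
    show E (x i - b ≫ x (i + 1)) = E (x i) - y ≫ E (x (i + 1))
    rw [hsub, hnat]

/-- `Psi` along an isomorphism of sources -/
theorem psi_bij_iso {B B' K : 𝒟'} (e : B ≅ B') (b : B ⟶ B) (b' : B' ⟶ B')
    (h : b ≫ e.hom = e.hom ≫ b') :
    Function.Bijective (Psi (K := K) b) ↔ Function.Bijective (Psi (K := K) b') := by
  refine psi_bij_transport (fun x => e.inv ≫ x) ⟨?_, ?_⟩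
    (fun x x' => Preadditive.comp_sub _ x x') b b' (fun x => ?_)
  · intro x x' hx
    exact (cancel_epi e.inv).1 hx
  · intro z
    exact ⟨e.hom ≫ z, by simp⟩
  · have h' : e.inv ≫ b = b' ≫ e.inv := by
      rw [Iso.inv_comp_eq, ← Category.assoc, ← h, Category.assoc, Iso.hom_inv_id,
        Category.comp_id]
    show e.inv ≫ b ≫ x = b' ≫ e.inv ≫ x
    rw [← Category.assoc, h', Category.assoc]

lemma iso_chain {A₀ A₁ A₂ A₃ A₄ : 𝒟} (a₀ : A₀ ⟶ A₀) (a₁ : A₁ ⟶ A₁) (a₂ : A₂ ⟶ A₂)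
    (a₃ : A₃ ⟶ A₃) (a₄ : A₄ ⟶ A₄) (Θ₁ : A₀ ≅ A₁) (Θ₂ : A₁ ≅ A₂) (Θ₃ : A₂ ≅ A₃) (Θ₄ : A₃ ≅ A₄)
    (n1 : a₀ ≫ Θ₁.hom = Θ₁.hom ≫ a₁) (n2 : a₁ ≫ Θ₂.hom = Θ₂.hom ≫ a₂)
    (n3 : a₂ ≫ Θ₃.hom = Θ₃.hom ≫ a₃) (n4 : a₃ ≫ Θ₄.hom = Θ₄.hom ≫ a₄) :
    a₀ ≫ (Θ₁ ≪≫ Θ₂ ≪≫ Θ₃ ≪≫ Θ₄).hom = (Θ₁ ≪≫ Θ₂ ≪≫ Θ₃ ≪≫ Θ₄).hom ≫ a₄ := by
  simp only [Iso.trans_hom, Category.assoc]
  rw [reassoc_of% n1, reassoc_of% n2, reassoc_of% n3, n4]

variable {Jf : 𝒟' ⥤ 𝒟} {Rr : 𝒟 ⥤ 𝒟'} (adj₁ : Jf ⊣ Rr) [Jf.Additive]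
  {T H : 𝒟 ⥤ 𝒟} (adj₂ : T ⊣ H) [T.Additive]

include adj₁ adj₂ in
/-- `Hom(B, R(H L)) = Hom(T(J B), L) = Hom(J Y, L) = Hom(Y, R L)`, additively and compatibly with
endomorphisms -/
theorem exists_transport {B Y : 𝒟'} (Θ : T.obj (Jf.obj B) ≅ Jf.obj Y) (b : B ⟶ B) (y : Y ⟶ Y)
    (hΘ : T.map (Jf.map b) ≫ Θ.hom = Θ.hom ≫ Jf.map y) (L : 𝒟) :
    ∃ E : (B ⟶ Rr.obj (H.obj L)) → (Y ⟶ Rr.obj L), Function.Bijective E ∧
      (∀ x x', E (x - x') = E x - E x') ∧ ∀ x, E (b ≫ x) = y ≫ E x := by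
  let e : (B ⟶ Rr.obj (H.obj L)) ≃ (Y ⟶ Rr.obj L) :=
    (adj₁.homEquiv B (H.obj L)).symm.trans ((adj₂.homEquiv (Jf.obj B) L).symm.trans
      (Θ.homFromEquiv.trans (adj₁.homEquiv Y L)))
  have he : ∀ x, e x = adj₁.homEquiv Y L (Θ.inv ≫ (adj₂.homEquiv (Jf.obj B) L).symm
      ((adj₁.homEquiv B (H.obj L)).symm x)) := fun x => rfl
  refine ⟨e, e.bijective, fun x x' => ?_, fun x => ?_⟩
  · rw [he, he, he]
    have h1 : (adj₁.homEquiv B (H.obj L)).symm (x - x') =
        (adj₁.homEquiv B (H.obj L)).symm x - (adj₁.homEquiv B (H.obj L)).symm x' :=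
      map_sub (adj₁.homAddEquiv B (H.obj L)).symm x x'
    have h2 : ∀ z z' : Jf.obj B ⟶ H.obj L, (adj₂.homEquiv (Jf.obj B) L).symm (z - z') =
        (adj₂.homEquiv (Jf.obj B) L).symm z - (adj₂.homEquiv (Jf.obj B) L).symm z' :=
      fun z z' => map_sub (adj₂.homAddEquiv (Jf.obj B) L).symm z z'
    rw [h1, h2, Preadditive.comp_sub]
    exact map_sub (adj₁.homAddEquiv Y L) _ _
  · rw [he, he, Adjunction.homEquiv_naturality_left_symm,
      Adjunction.homEquiv_naturality_left_symm]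
    have h' : Θ.inv ≫ T.map (Jf.map b) = Jf.map y ≫ Θ.inv := by
      rw [Iso.inv_comp_eq, ← Category.assoc, ← hΘ, Category.assoc, Iso.hom_inv_id,
        Category.comp_id]
    rw [← Category.assoc, h', Category.assoc, Adjunction.homEquiv_naturality_left]

end Abstract

section Eps

variable {𝒜 : Type*} [Category 𝒜] [Abelian 𝒜] [HasDerivedCategory 𝒜]

/-- `(A[0])[m] = Q(A[-m])` naturally in `A` -/
theorem exists_eps (A : 𝒜) (t : A ⟶ A) (m : ℤ) :
    ∃ ε : ((DerivedCategory.singleFunctor 𝒜 0).obj A)⟦m⟧ ≅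
        DerivedCategory.Q.obj ((CochainComplex.singleFunctor 𝒜 (-m)).obj A),
      ((DerivedCategory.singleFunctor 𝒜 0).map t)⟦m⟧' ≫ ε.hom =
        ε.hom ≫ DerivedCategory.Q.map ((CochainComplex.singleFunctor 𝒜 (-m)).map t) := by
  let e := (DerivedCategory.singleFunctors 𝒜).shiftIso m (-m) 0 (by omega) ≪≫
    DerivedCategory.singleFunctorIsoCompQ 𝒜 (-m)
  exact ⟨e.app A, e.hom.naturality t⟩

end Eps

section Concrete

variable {C : Type u} [SmallCategory C] {J : GrothendieckTopology C} (O : Sheaf J CommRingCat.{u})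
  (U : C) (P : CochainComplex (ModSite.Mod O) ℤ)

/-- `j_!` on complexes -/
noncomputable abbrev jC : CochainComplex (ModSite.Mod (O.over U)) ℤ ⥤
    CochainComplex (ModSite.Mod O) ℤ :=
  (ModSite.extZero O U).mapHomologicalComplex (ComplexShape.up ℤ)

/-- restriction on complexes -/
noncomputable abbrev rC : CochainComplex (ModSite.Mod O) ℤ ⥤
    CochainComplex (ModSite.Mod (O.over U)) ℤ :=
  (ModSite.restr O U).mapHomologicalComplex (ComplexShape.up ℤ)

/-- `j_!` on derived categories -/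
noncomputable abbrev jD : DerivedCategory (ModSite.Mod (O.over U)) ⥤
    DerivedCategory (ModSite.Mod O) :=
  (ModSite.extZero O U).mapDerivedCategory

/-- the complex `Tot(F ⊗ P|_U)` over `O_U` -/
noncomputable abbrev Yc (F : CochainComplex (ModSite.Mod (O.over U)) ℤ) :
    CochainComplex (ModSite.Mod (O.over U)) ℤ :=
  ((ModSite.tensorCx (O.over U)).obj F).obj ((rC O U).obj P)

/-- `j_!` of a free module in one degree is K-flat -/
theorem isKFlat_extZero_single (y : Over U) (k : ℤ) :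
    ModSite.IsKFlat ((jC O U).obj ((CochainComplex.singleFunctor (ModSite.Mod (O.over U)) k).obj
      (ModSite.freeOn (O.over U) y))) := by
  refine Groth.Agent.Lib.Helper5.Misc.KFlatSite.isKFlat_of_concentrated O _ k (fun n hn => ?_) ?_
  · exact Functor.map_isZero (ModSite.extZero O U)
      (HomologicalComplex.isZero_single_obj_X (ComplexShape.up ℤ) k _ n hn)
  · have h1 : ModSite.IsFlat (ModSite.freeOn (O.over U) y) :=
      (Groth.Agent.S6146.result (O.over U) y).2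
    have h2 := (Groth.Agent.S6146.result O U).1 _ h1
    exact Groth.Agent.S6146.isFlat_of_iso ((ModSite.extZero O U).mapIso
      (HomologicalComplex.singleObjXSelf (ComplexShape.up ℤ) k
        (ModSite.freeOn (O.over U) y)).symm) h2

variable [ModSite.HasLTensorCx P]

/-- `(Q(j_! F)) ⊗^L P ≅ j_!(Q(Tot(F ⊗ P|_U)))` for `j_! F` K-flat, compatibly with endomorphisms
of `F` -/
theorem exists_theta (F : CochainComplex (ModSite.Mod (O.over U)) ℤ)
    (hF : ModSite.IsKFlat ((jC O U).obj F)) (ψ : F ⟶ F) :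
    ∃ Θ : (ModSite.LTensorCx P).obj ((jD O U).obj (DerivedCategory.Q.obj F)) ≅
        (jD O U).obj (DerivedCategory.Q.obj (Yc O U P F)),
      (ModSite.LTensorCx P).map ((jD O U).map (DerivedCategory.Q.map ψ)) ≫ Θ.hom =
        Θ.hom ≫ (jD O U).map (DerivedCategory.Q.map
          (((ModSite.tensorCx (O.over U)).map ψ).app ((rC O U).obj P))) := by
  haveI : IsIso (((ModSite.tensorCxQ P).totalLeftDerivedCounit DerivedCategory.Q
      (HomologicalComplex.quasiIso (ModSite.Mod O) (ComplexShape.up ℤ))).app ((jC O U).obj F)) :=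
    Groth.Agent.Lib.Helper5.DerQ.isIso_counit_app
      (Groth.Agent.Lib.Helper5.ExactPQ.adaptedQ_tensorCxQ_site O P) (ModSite.LTensorCx P) _
      ((jC O U).obj F) hF
  obtain ⟨Θ₁, n1⟩ : ∃ Θ₁ : (ModSite.LTensorCx P).obj ((jD O U).obj (DerivedCategory.Q.obj F)) ≅
      (ModSite.LTensorCx P).obj (DerivedCategory.Q.obj ((jC O U).obj F)),
      (ModSite.LTensorCx P).map ((jD O U).map (DerivedCategory.Q.map ψ)) ≫ Θ₁.hom =
        Θ₁.hom ≫ (ModSite.LTensorCx P).map (DerivedCategory.Q.map ((jC O U).map ψ)) := by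
    refine ⟨(ModSite.LTensorCx P).mapIso
      ((ModSite.extZero O U).mapDerivedCategoryFactors.app F), ?_⟩
    exact ((ModSite.LTensorCx P).map_comp _ _).symm.trans
      ((congrArg (fun t => (ModSite.LTensorCx P).map t)
        ((ModSite.extZero O U).mapDerivedCategoryFactors.hom.naturality ψ)).trans
        ((ModSite.LTensorCx P).map_comp _ _))
  obtain ⟨Θ₂, n2⟩ : ∃ Θ₂ : (ModSite.LTensorCx P).obj (DerivedCategory.Q.obj ((jC O U).obj F)) ≅
      DerivedCategory.Q.obj (((ModSite.tensorCx O).obj ((jC O U).obj F)).obj P),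
      (ModSite.LTensorCx P).map (DerivedCategory.Q.map ((jC O U).map ψ)) ≫ Θ₂.hom =
        Θ₂.hom ≫ DerivedCategory.Q.map (((ModSite.tensorCx O).map ((jC O U).map ψ)).app P) :=
    ⟨asIso (((ModSite.tensorCxQ P).totalLeftDerivedCounit DerivedCategory.Q
      (HomologicalComplex.quasiIso (ModSite.Mod O) (ComplexShape.up ℤ))).app ((jC O U).obj F)),
      ((ModSite.tensorCxQ P).totalLeftDerivedCounit DerivedCategory.Q
        (HomologicalComplex.quasiIso (ModSite.Mod O) (ComplexShape.up ℤ))).naturality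
          ((jC O U).map ψ)⟩
  obtain ⟨Θ₃, n3⟩ : ∃ Θ₃ : DerivedCategory.Q.obj
        (((ModSite.tensorCx O).obj ((jC O U).obj F)).obj P) ≅
      DerivedCategory.Q.obj ((jC O U).obj (Yc O U P F)),
      DerivedCategory.Q.map (((ModSite.tensorCx O).map ((jC O U).map ψ)).app P) ≫ Θ₃.hom =
        Θ₃.hom ≫ DerivedCategory.Q.map ((jC O U).map
          (((ModSite.tensorCx (O.over U)).map ψ).app ((rC O U).obj P))) := by
    refine ⟨DerivedCategory.Q.mapIso
      (Groth.Agent.Lib.Helper5.Misc.KFlatRestr.totIso O U F P).symm, ?_⟩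
    have h := totIso_naturality_left O U ψ P
    have h' : ((ModSite.tensorCx O).map ((jC O U).map ψ)).app P ≫
        (Groth.Agent.Lib.Helper5.Misc.KFlatRestr.totIso O U F P).inv =
        (Groth.Agent.Lib.Helper5.Misc.KFlatRestr.totIso O U F P).inv ≫ (jC O U).map
          (((ModSite.tensorCx (O.over U)).map ψ).app ((rC O U).obj P)) := by
      rw [Iso.comp_inv_eq, Category.assoc, h, Iso.inv_hom_id_assoc]
    exact (DerivedCategory.Q.map_comp _ _).symm.trans
      ((congrArg (fun t => DerivedCategory.Q.map t) h').trans (DerivedCategory.Q.map_comp _ _))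
  obtain ⟨Θ₄, n4⟩ : ∃ Θ₄ : DerivedCategory.Q.obj ((jC O U).obj (Yc O U P F)) ≅
      (jD O U).obj (DerivedCategory.Q.obj (Yc O U P F)),
      DerivedCategory.Q.map ((jC O U).map
          (((ModSite.tensorCx (O.over U)).map ψ).app ((rC O U).obj P))) ≫ Θ₄.hom =
        Θ₄.hom ≫ (jD O U).map (DerivedCategory.Q.map
          (((ModSite.tensorCx (O.over U)).map ψ).app ((rC O U).obj P))) :=
    ⟨((ModSite.extZero O U).mapDerivedCategoryFactors.app (Yc O U P F)).symm,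
      (ModSite.extZero O U).mapDerivedCategoryFactors.inv.naturality
        (((ModSite.tensorCx (O.over U)).map ψ).app ((rC O U).obj P))⟩
  exact ⟨Θ₁ ≪≫ Θ₂ ≪≫ Θ₃ ≪≫ Θ₄, iso_chain _ _ _ _ _ Θ₁ Θ₂ Θ₃ Θ₄ n1 n2 n3 n4⟩

end Concrete

end Groth.Agent.Lib.Helper6.DCRHom
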