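import Mathlib
import Groth.Prelude.Def_DerComp
import Groth.Agent.Lib.Helper6.DCLoc.Main

/-!
# The tower object with its data exposed (helper6)

`exists_tower'` is `DCLoc.exists_tower` with the product, the shift map and the triangle exposed;
`psi_bij_of_local`: if the telescope conditions hold locally for `K` and the global section `s`,
then `(x_i) ↦ (x_i - s x_{i+1})` is bijective on `∏_ℕ Hom(Y, K)` for every `Y ∈ D(O)`.
-/

set_option backward.isDefEq.respectTransparency.types false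
set_option autoImplicit false
set_option linter.unusedSectionVars false
set_option linter.unusedVariables false
set_option linter.style.haveILetI false
universe u
open CategoryTheory CategoryTheory.Limits CategoryTheory.Pretriangulated Opposite
attribute [local instance] HasDerivedCategory.standard

namespace Groth.Agent.Lib.Helper6.DCRHom

open Groth.Agent.Lib.Helper6.DCPush Groth.Agent.Lib.Helper6.DCLoc Groth.Agent.Helper3.KInjProd

variable {C : Type u} [SmallCategory C] {J : GrothendieckTopology C} (O : Sheaf J CommRingCat.{u})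

/-- the tower object `T(K, s)` with its defining data -/
theorem exists_tower' (s : DerComp.GSec O) (K : DerivedCategory (ModSite.Mod O)) :
    ∃ (P Z : DerivedCategory (ModSite.Mod O)) (π : ℕ → (P ⟶ K))
      (_ : Nonempty (IsLimit (Fan.mk P π))) (Φ : P ⟶ P) (g : P ⟶ Z) (h' : Z ⟶ P⟦(1 : ℤ)⟧),
      (∀ i, Φ ≫ π i = π i - π (i + 1) ≫ (s • 𝟙 K)) ∧
      Triangle.mk Φ g h' ∈ distTriang (DerivedCategory (ModSite.Mod O)) ∧
      ∀ G : ModSite.Mod O,
        (∀ m : ℤ, Bij (((DerivedCategory.singleFunctor (ModSite.Mod O) 0).map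
          (tel (DerComp.smulEnd s G)))⟦m⟧') K) ↔
        (∀ m : ℤ, Subsingleton
          (((DerivedCategory.singleFunctor (ModSite.Mod O) 0).obj G)⟦m⟧ ⟶ Z)) := by
  obtain ⟨I, hI, -, ⟨e⟩⟩ := Groth.Agent.Helper3.Bous3.exists_repr K
  haveI : ∀ _ : ℕ, I.IsKInjective := fun _ => hI
  let P : DerivedCategory (ModSite.Mod O) := DerivedCategory.Q.obj (pK (fun _ : ℕ => I))
  let π : ℕ → (P ⟶ K) := fun j => DerivedCategory.Q.map (prK (fun _ : ℕ => I) j) ≫ e.hom
  have hl : ∀ (Y : DerivedCategory (ModSite.Mod O)) (φ : ℕ → (Y ⟶ K)),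
      ∃ ψ : Y ⟶ P, ∀ j, ψ ≫ π j = φ j := by
    intro Y φ
    obtain ⟨ψ, hψ⟩ := exists_lift (fun _ : ℕ => I) Y (fun j => φ j ≫ e.inv)
    refine ⟨ψ, fun j => ?_⟩
    show ψ ≫ DerivedCategory.Q.map (prK (fun _ : ℕ => I) j) ≫ e.hom = φ j
    rw [← Category.assoc, hψ j, Category.assoc, Iso.inv_hom_id, Category.comp_id]
  have hP : IsLimit (Fan.mk P π) :=
    Fan.IsLimit.mk _ (fun t => (hl t.pt (fun j => t.proj j)).choose)
      (fun t j => (hl t.pt (fun j => t.proj j)).choose_spec j)
      (fun t m hm => by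
        apply eq_of_prK (fun _ : ℕ => I)
        intro j
        have h1 : m ≫ π j = t.proj j := hm j
        have h2 := (hl t.pt (fun j => t.proj j)).choose_spec j
        have h3 : m ≫ π j = (hl t.pt (fun j => t.proj j)).choose ≫ π j := h1.trans h2.symm
        have h4 : (m ≫ DerivedCategory.Q.map (prK (fun _ : ℕ => I) j)) ≫ e.hom =
            ((hl t.pt (fun j => t.proj j)).choose ≫
              DerivedCategory.Q.map (prK (fun _ : ℕ => I) j)) ≫ e.hom := by
          rw [Category.assoc, Category.assoc]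
          exact h3
        exact (cancel_mono e.hom).1 h4)
  let σ : K ⟶ K := s • 𝟙 K
  let Φ : P ⟶ P := Fan.IsLimit.lift hP (fun i => π i - π (i + 1) ≫ σ)
  have hΦ : ∀ i, Φ ≫ π i = π i - π (i + 1) ≫ σ := fun i =>
    Fan.IsLimit.fac hP (fun i => π i - π (i + 1) ≫ σ) i
  obtain ⟨Z, g, h', hT⟩ := distinguished_cocone_triangle Φ
  refine ⟨P, Z, π, ⟨hP⟩, Φ, g, h', hΦ, hT, fun G => ?_⟩
  obtain ⟨hC⟩ := nonempty_isColimit_single_sigma (A := ModSite.Mod O) G
  have ha : ∀ i : ℕ,
      (DerivedCategory.singleFunctor (ModSite.Mod O) 0).map (Sigma.ι (fun _ : ℕ => G) i) ≫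
        (DerivedCategory.singleFunctor (ModSite.Mod O) 0).map (tel (DerComp.smulEnd s G)) =
      (DerivedCategory.singleFunctor (ModSite.Mod O) 0).map (Sigma.ι (fun _ : ℕ => G) i) -
        (DerivedCategory.singleFunctor (ModSite.Mod O) 0).map (DerComp.smulEnd s G) ≫
          (DerivedCategory.singleFunctor (ModSite.Mod O) 0).map
            (Sigma.ι (fun _ : ℕ => G) (i + 1)) := by
    intro i
    rw [← Functor.map_comp, ι_tel, Functor.map_sub, Functor.map_comp]
  have hs1 : DerComp.smulEnd s G = s • 𝟙 G := by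
    rw [DerComp.smul_def, Category.comp_id]
  have hτ : ∀ (m : ℤ) (x : ((DerivedCategory.singleFunctor (ModSite.Mod O) 0).obj G)⟦m⟧ ⟶ K),
      ((DerivedCategory.singleFunctor (ModSite.Mod O) 0).map (DerComp.smulEnd s G))⟦m⟧' ≫ x =
        x ≫ σ := by
    intro m x
    show _ = x ≫ (s • 𝟙 K)
    rw [hs1, Functor.map_smul, CategoryTheory.Functor.map_id, Functor.map_smul,
      CategoryTheory.Functor.map_id, Linear.smul_comp, Category.id_comp, Linear.comp_smul,
      Category.comp_id]
  exact bij_iff_subsingleton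
    (fun j => (DerivedCategory.singleFunctor (ModSite.Mod O) 0).map (Sigma.ι (fun _ : ℕ => G) j))
    hC ((DerivedCategory.singleFunctor (ModSite.Mod O) 0).map (DerComp.smulEnd s G))
    ((DerivedCategory.singleFunctor (ModSite.Mod O) 0).map (tel (DerComp.smulEnd s G))) ha
    π hP σ Φ hΦ hτ g h' hT

/-- if the telescope conditions hold locally then `(x_i) ↦ (x_i - s x_{i+1})` is bijective on
`∏_ℕ Hom(Y, K)` for every `Y` -/
theorem psi_bij_of_local (s : DerComp.GSec O) (K : DerivedCategory (ModSite.Mod O))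
    (h : ∀ U : C, ∃ S ∈ J U, ∀ ⦃V : C⦄ (g : V ⟶ U), S g → ∀ m : ℤ,
      Bij (((DerivedCategory.singleFunctor (ModSite.Mod O) 0).map
        (tel (DerComp.smulEnd s (ModSite.freeOn O V))))⟦m⟧') K)
    (Y : DerivedCategory (ModSite.Mod O)) :
    Function.Bijective (Psi (K := K) (s • 𝟙 Y)) := by
  obtain ⟨P, Z, π, ⟨hP⟩, Φ, g, h', hΦ, hT, hZ⟩ := exists_tower' O s K
  have hz : IsZero Z := by
    apply isZero_of_locally_orthogonal
    intro U'
    obtain ⟨S, hS, hSV⟩ := h U'
    refine ⟨S, hS, fun V g hg n => ?_⟩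
    exact (Groth.Agent.Helper3.Bous3.subsingleton_shift_hom_iff' _ _ n).1
      (((hZ (ModSite.freeOn O V)).1 (hSV g hg)) (-n))
  have hiso : IsIso Φ := (Triangle.isZero₃_iff_isIso₁ (Triangle.mk Φ g h') hT).1 hz
  have hco : CoBij Y Φ := by
    constructor
    · intro ψ ψ' hψ
      have hψ' : ψ ≫ Φ = ψ' ≫ Φ := hψ
      exact (cancel_mono Φ).1 hψ'
    · intro z
      refine ⟨z ≫ inv Φ, ?_⟩
      show (z ≫ inv Φ) ≫ Φ = z
      rw [Category.assoc, IsIso.inv_hom_id, Category.comp_id]
  refine (cobij_iff_psi π hP (s • 𝟙 K) Φ hΦ (s • 𝟙 Y) (fun x => ?_)).1 hco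
  rw [Linear.smul_comp, Category.id_comp, Linear.comp_smul, Category.comp_id]

end Groth.Agent.Lib.Helper6.DCRHom
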