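import Mathlib
import Groth.Prelude.Def_DerComp
import Groth.Agent.Lib.Helper6.DCRHom.Theta
import Groth.Agent.Lib.Helper6.DCRHom.Tower

/-!
# The telescope conditions for `RHom(P, L)|_U` (helper6)

`bij_rhom_restr`: if the telescope conditions for the global section `s` of `O_U` hold for `L|_U`
at all objects of `C/U`, they hold for `RHom(P, L)|_U`.
-/

set_option backward.isDefEq.respectTransparency.types false
set_option autoImplicit false
set_option linter.unusedSectionVars false
set_option linter.unusedVariables false
set_option linter.style.haveILetI false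
universe u
open CategoryTheory CategoryTheory.Limits Opposite
attribute [local instance] HasDerivedCategory.standard

namespace Groth.Agent.Lib.Helper6.DCRHom

open Groth.Agent.Lib.Helper6.DCPush Groth.Agent.Lib.Helper6.DCLoc Groth.Agent.Lib.Helper6.DCAway

variable {C : Type u} [SmallCategory C] {J : GrothendieckTopology C} (O : Sheaf J CommRingCat.{u})
  (U : C) (P : CochainComplex (ModSite.Mod O) ℤ) [ModSite.HasLTensorCx P] [DerComp.HasRHom P]

lemma additive_LTensorCx : (ModSite.LTensorCx P).Additive := by
  haveI : PreservesColimitsOfSize.{0, 0} (ModSite.LTensorCx P) :=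
    (DerComp.RHomAdj P).leftAdjoint_preservesColimits
  haveI := preservesBinaryBiproducts_of_preservesBinaryCoproducts (ModSite.LTensorCx P)
  exact Functor.additive_of_preservesBinaryBiproducts _

set_option maxHeartbeats 1600000 in
/-- the telescope conditions pass from `L|_U` to `RHom(P, L)|_U` -/
theorem bij_rhom_restr (s : DerComp.GSec (O.over U)) (L : DerivedCategory (ModSite.Mod O))
    (hloc : ∀ (z : Over U) (m : ℤ),
      Bij (((DerivedCategory.singleFunctor (ModSite.Mod (O.over U)) 0).map
        (tel (DerComp.smulEnd s (ModSite.freeOn (O.over U) z))))⟦m⟧')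
        ((ModSite.restr O U).mapDerivedCategory.obj L))
    (y : Over U) (m : ℤ) :
    Bij (((DerivedCategory.singleFunctor (ModSite.Mod (O.over U)) 0).map
        (tel (DerComp.smulEnd s (ModSite.freeOn (O.over U) y))))⟦m⟧')
      ((ModSite.restr O U).mapDerivedCategory.obj ((DerComp.RHom P).obj L)) := by
  obtain ⟨hC⟩ := nonempty_isColimit_single_sigma (A := ModSite.Mod (O.over U))
    (ModSite.freeOn (O.over U) y)
  have ha : ∀ i : ℕ,
      (DerivedCategory.singleFunctor (ModSite.Mod (O.over U)) 0).map
          (Sigma.ι (fun _ : ℕ => ModSite.freeOn (O.over U) y) i) ≫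
        (DerivedCategory.singleFunctor (ModSite.Mod (O.over U)) 0).map
          (tel (DerComp.smulEnd s (ModSite.freeOn (O.over U) y))) =
      (DerivedCategory.singleFunctor (ModSite.Mod (O.over U)) 0).map
          (Sigma.ι (fun _ : ℕ => ModSite.freeOn (O.over U) y) i) -
        (DerivedCategory.singleFunctor (ModSite.Mod (O.over U)) 0).map
            (DerComp.smulEnd s (ModSite.freeOn (O.over U) y)) ≫
          (DerivedCategory.singleFunctor (ModSite.Mod (O.over U)) 0).map
            (Sigma.ι (fun _ : ℕ => ModSite.freeOn (O.over U) y) (i + 1)) := by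
    intro i
    rw [← Functor.map_comp, ι_tel, Functor.map_sub, Functor.map_comp]
  refine (bij_shift_iff_psi
    (fun j => (DerivedCategory.singleFunctor (ModSite.Mod (O.over U)) 0).map
      (Sigma.ι (fun _ : ℕ => ModSite.freeOn (O.over U) y) j)) hC
    ((DerivedCategory.singleFunctor (ModSite.Mod (O.over U)) 0).map
      (DerComp.smulEnd s (ModSite.freeOn (O.over U) y)))
    ((DerivedCategory.singleFunctor (ModSite.Mod (O.over U)) 0).map
      (tel (DerComp.smulEnd s (ModSite.freeOn (O.over U) y)))) ha m _).2 ?_
  obtain ⟨ε, hε⟩ := exists_eps (ModSite.freeOn (O.over U) y)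
    (DerComp.smulEnd s (ModSite.freeOn (O.over U) y)) m
  refine (psi_bij_iso ε _ _ hε).2 ?_
  obtain ⟨Θ, hΘ⟩ := exists_theta O U P
    ((CochainComplex.singleFunctor (ModSite.Mod (O.over U)) (-m)).obj
      (ModSite.freeOn (O.over U) y))
    (isKFlat_extZero_single O U y (-m))
    ((CochainComplex.singleFunctor (ModSite.Mod (O.over U)) (-m)).map
      (DerComp.smulEnd s (ModSite.freeOn (O.over U) y)))
  haveI : (ModSite.LTensorCx P).Additive := additive_LTensorCx O P
  obtain ⟨E, hE, hsub, hnat⟩ := exists_transport (adjD O U) (DerComp.RHomAdj P) Θ _ _ hΘ L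
  refine (psi_bij_transport E hE hsub _ _ hnat).2 ?_
  have hs1 : DerComp.smulEnd s (ModSite.freeOn (O.over U) y) =
      s • 𝟙 (ModSite.freeOn (O.over U) y) := by
    rw [DerComp.smul_def, Category.comp_id]
  have hψ : (CochainComplex.singleFunctor (ModSite.Mod (O.over U)) (-m)).map
      (DerComp.smulEnd s (ModSite.freeOn (O.over U) y)) =
      s • 𝟙 ((CochainComplex.singleFunctor (ModSite.Mod (O.over U)) (-m)).obj
        (ModSite.freeOn (O.over U) y)) := by
    rw [hs1, Functor.map_smul, CategoryTheory.Functor.map_id]
  have hχ : DerivedCategory.Q.map (((ModSite.tensorCx (O.over U)).map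
      ((CochainComplex.singleFunctor (ModSite.Mod (O.over U)) (-m)).map
        (DerComp.smulEnd s (ModSite.freeOn (O.over U) y)))).app ((rC O U).obj P)) =
      s • 𝟙 (DerivedCategory.Q.obj (Yc O U P
        ((CochainComplex.singleFunctor (ModSite.Mod (O.over U)) (-m)).obj
          (ModSite.freeOn (O.over U) y)))) := by
    rw [hψ, tensorCx_map_app_smul, CategoryTheory.Functor.map_id, NatTrans.id_app,
      Functor.map_smul, CategoryTheory.Functor.map_id]
  rw [hχ]
  exact psi_bij_of_local (O.over U) s _
    (fun z => ⟨⊤, (J.over U).top_mem z, fun V g _ m' => hloc V m'⟩) _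

end Groth.Agent.Lib.Helper6.DCRHom
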